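import Groth.Agent.PairHensLib.TensorHens
import Groth.Agent.LocAcycBCLib.Main
import Groth.Agent.S0537
import Mathlib.RingTheory.NoetherNormalization
import Mathlib.AlgebraicGeometry.Morphisms.FiniteType

/-! The strict henselization of a point of a scheme of finite type as that of a closed point over a strict
henselization of a local ring of affine space over the base. -/

set_option autoImplicit false
set_option linter.unusedSectionVars false
set_option linter.overlappingInstances false
set_option linter.style.haveILetI false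
set_option backward.isDefEq.respectTransparency false
set_option backward.isDefEq.respectTransparency.types false
set_option maxHeartbeats 2000000
set_option synthInstance.maxHeartbeats 400000

universe u

open CategoryTheory AlgebraicGeometry IsLocalRing TensorProduct

namespace SHModelLib

/-- Transport of a strict henselization along an isomorphism of the target. -/
theorem exists_sh_of_target_equiv (R : Type u) [CommRing R] [IsLocalRing R] (T : Type u) [CommRing T] [IsLocalRing T]
    [Algebra R T] [IsLocalHom (algebraMap R T)] [hT : Hensel.IsStrictHenselization R T]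
    (A : Type u) [CommRing A] [IsLocalRing A] [hA : HenselianLocalRing A] [hA' : IsSepClosed (ResidueField A)]
    (e : T ≃+* A) :
    ∃ (_ : Algebra R A) (_ : IsLocalHom (algebraMap R A)), Hensel.IsStrictHenselization R A := by
  letI alg : Algebra R A := (e.toRingHom.comp (algebraMap R T)).toAlgebra
  haveI hl : IsLocalHom (algebraMap R A) := ⟨fun x hx => by
    have h1 : IsUnit (e (algebraMap R T x)) := hx
    exact IsUnit.of_map (algebraMap R T) x ((isUnit_map_iff e _).1 h1)⟩
  refine ⟨alg, hl, ⟨hA, ⟨hA', ?_⟩, fun U _ _ f _ τ hτ => ?_⟩⟩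
  · haveI := hT.isSepClosure.separable
    refine Algebra.IsSeparable.of_equiv_equiv (A₁ := ResidueField R) (B₁ := ResidueField T)
      (RingEquiv.refl _) (ResidueField.mapEquiv e) (RingHom.ext fun z => ?_)
    obtain ⟨r, rfl⟩ := residue_surjective z
    rfl
  · obtain ⟨g, ⟨hg, hg'⟩, hu⟩ := hT.universal U f (τ.comp (ResidueField.mapEquiv e).toRingHom) (RingHom.ext fun z => by
      obtain ⟨r, rfl⟩ := residue_surjective z
      exact RingHom.congr_fun hτ (residue R r))
    refine ⟨g.comp e.symm.toRingHom, ⟨RingHom.ext fun r => ?_, fun s => ?_⟩, fun g' ⟨h1, h2⟩ => ?_⟩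
    · show g (e.symm (e (algebraMap R T r))) = f r
      rw [e.symm_apply_apply]
      exact RingHom.congr_fun hg r
    · show residue U (g (e.symm s)) = τ (residue A s)
      rw [hg' (e.symm s)]
      show τ (residue A (e (e.symm s))) = _
      rw [e.apply_symm_apply]
    · have h3 : g'.comp e.toRingHom = g := hu _ ⟨RingHom.ext fun r => RingHom.congr_fun h1 r, fun s => h2 (e s)⟩
      refine RingHom.ext fun s => ?_
      rw [← h3]
      show g' s = g' (e (e.symm s))
      rw [e.apply_symm_apply]

theorem exists_model (R : Type u) [CommRing R] [IsDomain R] [IsLocalRing R] [IsNoetherianRing R] {X : Scheme.{u}}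
    (f : X ⟶ Spec (CommRingCat.of R)) [LocallyOfFiniteType f] (x : X)
    (hx : f.base x = ((closedPoint R : PrimeSpectrum R) : ↥(Spec (CommRingCat.of R))))
    (A : Type u) [CommRing A] [IsLocalRing A] [Algebra (X.presheaf.stalk x) A]
    [IsLocalHom (algebraMap (X.presheaf.stalk x) A)] [Hensel.IsStrictHenselization (X.presheaf.stalk x) A] :
    ∃ (R0 : Type u) (_ : CommRing R0) (_ : IsLocalRing R0) (_ : IsDomain R0) (_ : IsNoetherianRing R0)
      (i : R →+* R0) (_ : Function.Injective i) (_ : maximalIdeal R0 = (maximalIdeal R).map i)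
      (Rh : Type u) (_ : CommRing Rh) (_ : IsLocalRing Rh) (_ : Algebra R0 Rh) (_ : IsLocalHom (algebraMap R0 Rh))
      (_ : Hensel.IsStrictHenselization R0 Rh)
      (X' : Scheme.{u}) (f' : X' ⟶ Spec (CommRingCat.of Rh)) (_ : LocallyOfFiniteType f') (_ : QuasiCompact f')
      (x' : X') (_ : IsClosed ({x'} : Set X'))
      (_ : f'.base x' = ((closedPoint Rh : PrimeSpectrum Rh) : ↥(Spec (CommRingCat.of Rh))))
      (_ : Algebra (X'.presheaf.stalk x') A) (_ : IsLocalHom (algebraMap (X'.presheaf.stalk x') A)),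
      Hensel.IsStrictHenselization (X'.presheaf.stalk x') A := by
  haveI := Hensel.IsStrictHenselization.henselian (R := X.presheaf.stalk x) (S := A)
  haveI := (Hensel.IsStrictHenselization.isSepClosure (R := X.presheaf.stalk x) (S := A)).sep_closed
  -- an affine chart
  obtain ⟨W, hW, hxW, -⟩ := exists_isAffineOpen_mem_and_subset (U := (⊤ : X.Opens)) (x := x) trivial
  let C := Γ(X, W)
  let pt := hW.primeIdealOf ⟨x, hxW⟩
  let q : Ideal C := pt.asIdeal
  haveI : q.IsPrime := pt.isPrime
  obtain ⟨ec, -⟩ := LocAcycBCLib.exists_chart hW.fromSpec q x (hW.fromSpec_primeIdealOf ⟨x, hxW⟩)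
  obtain ⟨algqA, hqA, shqA, -⟩ := LocAcycBCLib.exists_sh_of_equiv ec.symm A
  letI := algqA
  haveI := hqA
  haveI := shqA
  -- the map of rings
  let g : Spec C ⟶ Spec (CommRingCat.of R) := hW.fromSpec ≫ f
  let φ : R →+* C := (Spec.preimage g).hom
  have hg : Spec.map (Spec.preimage g) = g := Spec.map_preimage g
  have hft : φ.FiniteType := by
    have h1 : LocallyOfFiniteType (Spec.map (Spec.preimage g)) := by
      rw [hg]
      exact inferInstance
    exact (HasRingHomProperty.Spec_iff (P := @LocallyOfFiniteType)).1 h1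
  have hqm : q.comap φ = maximalIdeal R := by
    have h1 : (Spec.map (Spec.preimage g)).base pt = (closedPoint R : PrimeSpectrum R) := by
      rw [hg]
      show f.base (hW.fromSpec.base pt) = _
      rw [show hW.fromSpec.base pt = x from hW.fromSpec_primeIdealOf ⟨x, hxW⟩]
      exact hx
    exact congrArg PrimeSpectrum.asIdeal h1
  letI : Algebra R C := φ.toAlgebra
  haveI : Algebra.FiniteType R C := hft
  -- Noether normalisation of the fibre
  letI : Field (R ⧸ maximalIdeal R) := Ideal.Quotient.field _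
  letI : Algebra (R ⧸ maximalIdeal R) (C ⧸ q) :=
    (Ideal.Quotient.lift (maximalIdeal R) ((Ideal.Quotient.mk q).comp φ) fun a ha => by
      rw [← hqm] at ha
      exact Ideal.Quotient.eq_zero_iff_mem.2 ha).toAlgebra
  haveI : IsScalarTower R (R ⧸ maximalIdeal R) (C ⧸ q) := IsScalarTower.of_algebraMap_eq fun _ => rfl
  haveI : Algebra.FiniteType R (C ⧸ q) :=
    Algebra.FiniteType.of_surjective (Ideal.Quotient.mkₐ R q) Ideal.Quotient.mk_surjective
  haveI : Algebra.FiniteType (R ⧸ maximalIdeal R) (C ⧸ q) :=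
    Algebra.FiniteType.of_restrictScalars_finiteType R (R ⧸ maximalIdeal R) (C ⧸ q)
  obtain ⟨r, nn, hnn, hnf⟩ := exists_finite_inj_algHom_of_fg (R ⧸ maximalIdeal R) (C ⧸ q)
  choose c hc using fun i : Fin r => Ideal.Quotient.mk_surjective (I := q) (nn (MvPolynomial.X i))
  let P := MvPolynomial (Fin r) R
  let ψ : P →ₐ[R] C := MvPolynomial.aeval c
  let π : P →+* MvPolynomial (Fin r) (R ⧸ maximalIdeal R) := MvPolynomial.map (Ideal.Quotient.mk (maximalIdeal R))
  have hπ : (Ideal.Quotient.mk q).comp ψ.toRingHom = nn.toRingHom.comp π := by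
    refine MvPolynomial.ringHom_ext (fun a => ?_) fun i => ?_
    · show Ideal.Quotient.mk q (ψ (MvPolynomial.C a)) = nn (MvPolynomial.map _ (MvPolynomial.C a))
      rw [MvPolynomial.map_C, ← MvPolynomial.algebraMap_eq, ← MvPolynomial.algebraMap_eq, AlgHom.commutes,
        AlgHom.commutes]
      rfl
    · show Ideal.Quotient.mk q (ψ (MvPolynomial.X i)) = nn (MvPolynomial.map _ (MvPolynomial.X i))
      rw [MvPolynomial.map_X, MvPolynomial.aeval_X, hc]
  let P0 : Ideal P := q.comap ψ.toRingHom
  have hP0 : P0 = (maximalIdeal R).map (MvPolynomial.C : R →+* P) := by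
    have h1 : P0 = RingHom.ker ((Ideal.Quotient.mk q).comp ψ.toRingHom) := by
      rw [← RingHom.comap_ker, Ideal.mk_ker]
    rw [h1, hπ, RingHom.ker_comp_of_injective _ hnn]
    show RingHom.ker (MvPolynomial.map (Ideal.Quotient.mk (maximalIdeal R))) = _
    rw [MvPolynomial.ker_map, Ideal.mk_ker]
  haveI : P0.IsPrime := Ideal.IsPrime.comap _
  letI : Algebra P C := ψ.toRingHom.toAlgebra
  haveI : q.LiesOver P0 := ⟨rfl⟩
  haveI : IsScalarTower R P C := IsScalarTower.of_algebraMap_eq fun a => (ψ.commutes a).symm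
  haveI : Algebra.FiniteType P C := Algebra.FiniteType.of_restrictScalars_finiteType R P C
  have hint : ∀ c : C ⧸ q, IsIntegral P c := by
    have h1 : ((Ideal.Quotient.mk q).comp ψ.toRingHom).Finite := by
      rw [hπ]
      exact RingHom.Finite.comp hnf (RingHom.Finite.of_surjective π
        (MvPolynomial.map_surjective _ Ideal.Quotient.mk_surjective))
    haveI : Module.Finite P (C ⧸ q) := h1
    exact fun c => IsIntegral.of_finite P c
  -- the strictly henselian base
  let R0 := Localization.AtPrime P0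
  haveI : IsNoetherianRing R0 := IsLocalization.isNoetherianRing P0.primeCompl R0 inferInstance
  obtain ⟨Rh, _, _, algR0, hR0, shR0⟩ := Groth.Agent.S0537.result R0
  haveI := shR0
  letI : Algebra P Rh := ((algebraMap R0 Rh).comp (algebraMap P R0)).toAlgebra
  haveI : IsScalarTower P R0 Rh := IsScalarTower.of_algebraMap_eq fun _ => rfl
  let Cq := Localization.AtPrime q
  letI : Algebra C A := ((algebraMap Cq A).comp (algebraMap C Cq)).toAlgebra
  haveI : IsScalarTower C Cq A := IsScalarTower.of_algebraMap_eq fun _ => rfl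
  letI : Algebra P A := ((algebraMap C A).comp ψ.toRingHom).toAlgebra
  haveI : IsScalarTower P C A := IsScalarTower.of_algebraMap_eq fun _ => rfl
  haveI : IsLocalHom (Localization.localRingHom P0 q (algebraMap P C) rfl) :=
    Localization.isLocalHom_localRingHom _ _ _ _
  obtain ⟨l, hl, hl'⟩ := LocAcycBCLib.exists_lift (O := R0) (R := Rh)
    ((algebraMap Cq A).comp (Localization.localRingHom P0 q (algebraMap P C) rfl))
  letI : Algebra Rh A := l.toAlgebra
  haveI : IsScalarTower P Rh A := IsScalarTower.of_algebraMap_eq fun a => by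
    show algebraMap Cq A (algebraMap C Cq (ψ a)) = l (algebraMap R0 Rh (algebraMap P R0 a))
    rw [← RingHom.comp_apply l, hl', RingHom.comp_apply, Localization.localRingHom_to_map]
    rfl
  -- the point
  let Q : Ideal (Rh ⊗[P] C) := PairHensLib.tensorPrime P C Rh A
  haveI : Q.IsPrime := Ideal.IsPrime.comap _
  have hQr : Q.comap (algebraMap Rh (Rh ⊗[P] C)) = maximalIdeal Rh := by
    ext a
    rw [Ideal.mem_comap]
    show PairHensLib.mulTensor P C Rh A (a ⊗ₜ[P] (1 : C)) ∈ maximalIdeal A ↔ _
    rw [PairHensLib.mulTensor_left, mem_maximalIdeal, mem_maximalIdeal, mem_nonunits_iff, mem_nonunits_iff]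
    haveI : IsLocalHom (algebraMap Rh A) := hl
    exact not_congr (isUnit_map_iff (algebraMap Rh A) a)
  have hQc : q ≤ Q.comap (Algebra.TensorProduct.includeRight : C →ₐ[P] Rh ⊗[P] C).toRingHom := fun z hz => by
    show PairHensLib.mulTensor P C Rh A ((1 : Rh) ⊗ₜ[P] z) ∈ maximalIdeal A
    rw [PairHensLib.mulTensor_right]
    exact (PairHensLib.mem_maximalIdeal_algebraMap_iff (q := q) (Sh := A)).2 hz
  haveI hQmax : Q.IsMaximal := by
    have hD : Algebra.IsIntegral Rh ((Rh ⊗[P] C) ⧸ Q) := ⟨fun z => by
      obtain ⟨y, rfl⟩ := Ideal.Quotient.mk_surjective z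
      induction y using TensorProduct.induction_on with
      | zero => rw [map_zero]; exact isIntegral_zero
      | add a b ha hb => rw [map_add]; exact ha.add hb
      | tmul a b =>
        rw [show a ⊗ₜ[P] b = (a ⊗ₜ[P] (1 : C)) * ((1 : Rh) ⊗ₜ[P] b) by simp, map_mul]
        refine IsIntegral.mul (isIntegral_algebraMap (x := a)) ?_
        let m : C ⧸ q →ₐ[P] (Rh ⊗[P] C) ⧸ Q := Ideal.Quotient.liftₐ q
          ((Ideal.Quotient.mkₐ P Q).comp Algebra.TensorProduct.includeRight)
          fun z hz => Ideal.Quotient.eq_zero_iff_mem.2 (hQc hz)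
        exact ((hint (Ideal.Quotient.mk q b)).map m).tower_top⟩
    have h1 : ((⊥ : Ideal ((Rh ⊗[P] C) ⧸ Q)).comap (algebraMap Rh ((Rh ⊗[P] C) ⧸ Q))).IsMaximal := by
      have h2 : (⊥ : Ideal ((Rh ⊗[P] C) ⧸ Q)).comap (algebraMap Rh ((Rh ⊗[P] C) ⧸ Q)) = maximalIdeal Rh := by
        ext a
        rw [← hQr, Ideal.mem_comap, Ideal.mem_comap, Ideal.mem_bot]
        exact Ideal.Quotient.eq_zero_iff_mem
      rw [h2]
      exact maximalIdeal.isMaximal Rh
    haveI := hD
    exact (Ideal.bot_quotient_isMaximal_iff Q).1 (Ideal.isMaximal_of_isIntegral_of_isMaximal_comap ⊥ h1)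
  obtain ⟨E, _, _, algE, hlE, shE⟩ := Groth.Agent.S0537.result (Localization.AtPrime Q)
  haveI := shE
  obtain ⟨e, -⟩ := PairHensLib.exists_equiv_strictHenselization (R := P) (S := C) (Rh := Rh) (Sh := A) (p := P0) (q := q)
    (E := E)
  obtain ⟨algQA, hlQA, shQA⟩ := exists_sh_of_target_equiv (Localization.AtPrime Q) E A e
  letI := algQA
  haveI := hlQA
  haveI := shQA
  let D := CommRingCat.of (Rh ⊗[P] C)
  let x' : Spec D := (⟨Q, inferInstance⟩ : PrimeSpectrum (Rh ⊗[P] C))
  obtain ⟨ec', -⟩ := LocAcycBCLib.exists_chart (R := D) (𝟙 (Spec D)) Q x' rfl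
  obtain ⟨algX, hlX, shX, -⟩ := LocAcycBCLib.exists_sh_of_equiv ec' A
  refine ⟨R0, inferInstance, inferInstance, inferInstance, inferInstance, (algebraMap P R0).comp MvPolynomial.C,
    ?_, ?_, Rh, inferInstance, inferInstance, algR0, hR0, shR0, Spec D,
    Spec.map (CommRingCat.ofHom (algebraMap Rh (Rh ⊗[P] C))), ?_, inferInstance, x',
    (PrimeSpectrum.isClosed_singleton_iff_isMaximal (⟨Q, inferInstance⟩ : PrimeSpectrum (Rh ⊗[P] C))).2 hQmax, ?_,
    algX, hlX, shX⟩
  · exact (IsLocalization.injective R0 P0.primeCompl_le_nonZeroDivisors).comp (MvPolynomial.C_injective _ _)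
  · rw [← Ideal.map_map, ← hP0]
    exact (Localization.AtPrime.map_eq_maximalIdeal).symm
  · exact (HasRingHomProperty.Spec_iff (P := @LocallyOfFiniteType)).2
      (RingHom.finiteType_algebraMap.2 inferInstance)
  · exact PrimeSpectrum.ext hQr

end SHModelLib
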